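import Mathlib

/-!
# Project PM3 (S2930): definitions

`G = alternatingGroup α` acts on `α`.  For a setoid `r` on `α` we define the subgroup
`setoidStab r` of `alternatingGroup α` of all even permutations preserving `r`
(in both directions).
-/

set_option autoImplicit false

namespace Cfsg.Agent.Lib.Helper11.PM3

open Equiv

variable {α : Type*} [Fintype α] [DecidableEq α]

/-- the even permutations preserving the equivalence relation `r` -/
def setoidStab (r : Setoid α) : Subgroup (alternatingGroup α) where
  carrier := {g | ∀ x y : α, r x y ↔ r ((g : Perm α) x) ((g : Perm α) y)}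
  one_mem' := fun x y => by simp
  mul_mem' := by
    intro g h hg hh x y
    rw [hh x y, hg ((h : Perm α) x) ((h : Perm α) y)]
    simp [Perm.mul_apply]
  inv_mem' := by
    intro g hg x y
    have := hg (((g⁻¹ : alternatingGroup α) : Perm α) x) (((g⁻¹ : alternatingGroup α) : Perm α) y)
    simpa using this.symm

theorem mem_setoidStab {r : Setoid α} {g : alternatingGroup α} :
    g ∈ setoidStab r ↔ ∀ x y : α, r x y ↔ r ((g : Perm α) x) ((g : Perm α) y) := Iff.rfl

/-- a one-directional criterion (enough on a finite type is NOT claimed here; this is just the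
easy direction packaged for subgroups): if every element of `S` maps related pairs to related
pairs then `S ≤ setoidStab r`. -/
theorem le_setoidStab_of_forall {r : Setoid α} {S : Subgroup (alternatingGroup α)}
    (h : ∀ g ∈ S, ∀ x y : α, r x y → r ((g : Perm α) x) ((g : Perm α) y)) :
    S ≤ setoidStab r := by
  intro g hg x y
  refine ⟨h g hg x y, fun hxy => ?_⟩
  have := h g⁻¹ (S.inv_mem hg) _ _ hxy
  simpa using this

/-- all classes of `r` have exactly `k` elements -/
def ClassCard (r : Setoid α) (k : ℕ) : Prop :=
  ∀ x : α, Set.ncard {y : α | r x y} = k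

/-- the setoid whose two classes are `s` and its complement -/
def sideSetoid (s : Set α) : Setoid α where
  r x y := (x ∈ s ↔ y ∈ s)
  iseqv := ⟨fun _ => Iff.rfl, fun h => h.symm, fun h1 h2 => h1.trans h2⟩

theorem sideSetoid_apply (s : Set α) (x y : α) : sideSetoid s x y ↔ (x ∈ s ↔ y ∈ s) := Iff.rfl

/-- `S` has no fixed point on `α` -/
def NoFixedPoint (S : Subgroup (alternatingGroup α)) : Prop :=
  ∀ x : α, ∃ g ∈ S, (g : Perm α) x ≠ x

end Cfsg.Agent.Lib.Helper11.PM3
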